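import Groth.Agent.Lib.Pur25.Regular
import Groth.Agent.Lib.Pur25.Square

/-!
# Restriction of finite étale covers along isomorphisms
-/

set_option autoImplicit false

universe u

open CategoryTheory CategoryTheory.Limits AlgebraicGeometry

noncomputable section

namespace Groth.Agent.PureLift25

open Groth.Agent.Pur25

/-- Restriction along the identity. -/
def restrictIdNat (X : Scheme.{u}) : FEt.restrict (𝟙 X) ≅ 𝟭 (FEt.Cat X) :=
  NatIso.ofComponents (fun W => restrictId W) fun {A B} g => by
    apply MorphismProperty.Over.Hom.ext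
    show pullback.lift (pullback.fst A.hom (𝟙 X) ≫ g.left) (pullback.snd A.hom (𝟙 X)) _ ≫ pullback.fst B.hom (𝟙 X) = _
    rw [pullback.lift_fst]
    rfl

theorem isEquivalence_restrict_of_isIso {X Y : Scheme.{u}} (f : X ⟶ Y) [IsIso f] :
    (FEt.restrict f).IsEquivalence := by
  let η : FEt.restrict (inv f) ⋙ FEt.restrict f ≅ 𝟭 _ :=
    (restrictComp f (inv f)).symm ≪≫ MorphismProperty.Over.pullbackCongr (IsIso.hom_inv_id f) ≪≫ restrictIdNat X
  let ε : FEt.restrict f ⋙ FEt.restrict (inv f) ≅ 𝟭 _ :=
    (restrictComp (inv f) f).symm ≪≫ MorphismProperty.Over.pullbackCongr (IsIso.inv_hom_id f) ≪≫ restrictIdNat Y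
  exact (CategoryTheory.Equivalence.mk (FEt.restrict f) (FEt.restrict (inv f)) ε.symm η).isEquivalence_functor

/-- Being an equivalence is invariant under composition with isomorphisms. -/
theorem isEquivalence_restrict_of_iso_comp {X X' Y Y' : Scheme.{u}} {j : X ⟶ Y} {k : X' ⟶ Y'} (a : X ⟶ X')
    (b : Y' ⟶ Y) [IsIso a] [IsIso b] (hj : j = a ≫ k ≫ b) [(FEt.restrict k).IsEquivalence] :
    (FEt.restrict j).IsEquivalence := by
  subst hj
  haveI := isEquivalence_restrict_of_isIso a
  haveI := isEquivalence_restrict_of_isIso b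
  haveI : (FEt.restrict (k ≫ b)).IsEquivalence := Functor.isEquivalence_of_iso (restrictComp k b).symm
  exact Functor.isEquivalence_of_iso (restrictComp a (k ≫ b)).symm

end Groth.Agent.PureLift25
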