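import Groth.Agent.Lib.PureLift25.Iso
import Groth.Agent.Lib.Lef25.Finite
import Groth.Agent.Lib.Ram25.Jac
import Groth.Agent.S2930
import Groth.Agent.S1135
import Groth.Agent.S0239
import Groth.Prelude.Def_SGA2

/-!
# Purity lifts from a hypersurface section
-/

set_option autoImplicit false
set_option linter.style.haveILetI false

universe u

open CategoryTheory CategoryTheory.Limits AlgebraicGeometry

noncomputable section

namespace Groth.Agent.PureLift25

open Groth.Agent.Pur25

/-- A local pair is pure as soon as restriction from the whole spectrum is an equivalence. -/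
theorem isPurePair_punctured (A : Type u) [CommRing A] [IsLocalRing A]
    [(FEt.restrict (FEt.puncturedSpec A).ι).IsEquivalence] :
    SGA2.IsPurePair (Spec (CommRingCat.of A)) (FEt.puncturedSpec A) := by
  intro V
  let X := Spec (CommRingCat.of A)
  let U := FEt.puncturedSpec A
  by_cases hV : IsLocalRing.closedPoint A ∈ V
  · obtain rfl : V = ⊤ := top_le_iff.1 fun q _ => by
      exact ((IsLocalRing.specializes_closedPoint q).mem_open V.2 hV)
    let a := (X.isoOfEq (top_inf_eq U : ⊤ ⊓ U = U)).hom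
    refine isEquivalence_restrict_of_iso_comp (k := U.ι) a X.topIso.inv ?_
    rw [← cancel_mono (⊤ : X.Opens).ι]
    simp [a, X]
    rfl
  · have hle : V ≤ U := fun q hq (h : q = IsLocalRing.closedPoint A) => hV (h ▸ hq)
    have h := inf_eq_left.2 hle
    rw [show X.homOfLE (inf_le_left : V ⊓ U ≤ V) = (X.isoOfEq h).hom by
      rw [← cancel_mono V.ι]; simp [X]]
    exact isEquivalence_restrict_of_isIso _

theorem restrict_punctured_isEquivalence {A : Type u} [CommRing A] [IsLocalRing A]
    (h : SGA2.IsPurePair (Spec (CommRingCat.of A)) (FEt.puncturedSpec A)) :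
    (FEt.restrict (FEt.puncturedSpec A).ι).IsEquivalence := by
  let X := Spec (CommRingCat.of A)
  let U := FEt.puncturedSpec A
  haveI := h ⊤
  refine isEquivalence_restrict_of_iso_comp (k := X.homOfLE (inf_le_left : ⊤ ⊓ U ≤ ⊤))
    (X.isoOfEq (top_inf_eq U : ⊤ ⊓ U = U)).inv X.topIso.hom ?_
  simp [X, U]

/-- Depth two in dimension one gives finiteness of local cohomology up to degree two. -/
theorem exists_kill_H {R A : Type u} [CommRing R] [IsRegularLocalRing R] [CommRing A] [IsLocalRing A]
    [IsNoetherianRing A] (π : R →+* A) (hπ : Function.Surjective π)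
    (hdepth : ∀ p : Ideal A, ∀ _ : p.IsPrime, ringKrullDim (A ⧸ p) = 1 →
      (2 : ℕ∞) ≤ LocCoh.depth (Localization.AtPrime p) (Localization.AtPrime p))
    {t : A} (ht : t ∈ IsLocalRing.maximalIdeal A) (i : ℕ) (hi : i ≤ 2) :
    ∃ n : ℕ, ∀ x : LocCoh.H (IsLocalRing.maximalIdeal A) i A, (t ^ n) • x = 0 := by
  haveI : IsRegularRing R := Ram25.isRegularRing_of_isRegularLocalRing R
  have hfin : ∀ i : ℕ, i ≤ 2 → Module.Finite A (LocCoh.H (IsLocalRing.maximalIdeal A) i A) := by
    refine (Groth.Agent.S2930.result R A π hπ _ A 2).2 fun p q hp hq hpq => ?_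
    have hqm : q.asIdeal = IsLocalRing.maximalIdeal A :=
      le_antisymm (IsLocalRing.le_maximalIdeal q.isPrime.ne_top) hq
    have hd : ringKrullDim (A ⧸ p.asIdeal) = 1 := by
      haveI : Nontrivial (A ⧸ p.asIdeal) := Ideal.Quotient.nontrivial_iff.2 p.isPrime.ne_top
      haveI : IsLocalRing (A ⧸ p.asIdeal) := IsLocalRing.of_surjective' (Ideal.Quotient.mk p.asIdeal) Ideal.Quotient.mk_surjective
      refine ringKrullDim_eq_one_iff_of_isLocalRing_isDomain.2 ⟨fun hF => ?_, fun x hx => ?_⟩
      · exact hp (IsLocalRing.eq_maximalIdeal (Ideal.Quotient.maximal_of_isField _ hF)).ge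
      · rw [Ideal.radical_eq_sInf]
        refine le_sInf fun J ⟨hJx, hJ⟩ => ?_
        let P : PrimeSpectrum A := ⟨J.comap (Ideal.Quotient.mk p.asIdeal), Ideal.IsPrime.comap _⟩
        have hpP : p.asIdeal < P.asIdeal := by
          refine lt_of_le_not_ge (fun a ha => ?_) fun hle => hx ?_
          · show Ideal.Quotient.mk p.asIdeal a ∈ J
            rw [Ideal.Quotient.eq_zero_iff_mem.2 ha]
            exact J.zero_mem
          · obtain ⟨a, rfl⟩ := Ideal.Quotient.mk_surjective x
            exact Ideal.Quotient.eq_zero_iff_mem.2 (hle ((Ideal.span_singleton_le_iff_mem J).1 hJx))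
        have hPq : P.asIdeal = q.asIdeal := by
          by_contra hne
          exact hpq.2 (show p < P from hpP)
            (show P < q from lt_of_le_of_ne ((IsLocalRing.le_maximalIdeal P.isPrime.ne_top).trans hq) fun e => hne (congrArg PrimeSpectrum.asIdeal e))
        intro y hy
        obtain ⟨a, rfl⟩ := Ideal.Quotient.mk_surjective y
        refine (?_ : a ∈ P.asIdeal)
        rw [hPq, hqm]
        by_contra ha
        exact hy ((IsLocalRing.notMem_maximalIdeal.1 ha).map _)
    exact hdepth p.asIdeal p.isPrime hd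
  haveI := hfin i hi
  obtain ⟨n, hn⟩ := Lef25.le_radical_annihilator_H_of_finite A i ht
  exact ⟨n, Module.mem_annihilator.1 hn⟩

/-- Purity lifts from `A/(t)` to `A`. -/
theorem restrict_isEquivalence_of_quotient {A : Type u} [CommRing A] [IsLocalRing A] [IsNoetherianRing A] (t : A)
    (ht : t ∈ IsLocalRing.maximalIdeal A) [HenselianRing A (Ideal.span {t})] [IsLocalRing (A ⧸ Ideal.span {t})]
    (h1 : ∃ n : ℕ, ∀ x : LocCoh.H (IsLocalRing.maximalIdeal A) 1 A, (t ^ n) • x = 0)
    (h2 : ∃ n : ℕ, ∀ x : LocCoh.H (IsLocalRing.maximalIdeal A) 2 A, (t ^ n) • x = 0)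
    [(FEt.restrict (FEt.puncturedSpec (A ⧸ Ideal.span {t})).ι).IsEquivalence] :
    (FEt.restrict (FEt.puncturedSpec A).ι).IsEquivalence := by
  let qA := Spec.map (CommRingCat.ofHom (Ideal.Quotient.mk (Ideal.span {t})))
  let U := FEt.puncturedSpec A
  let U' := FEt.puncturedSpec (A ⧸ Ideal.span {t})
  let a := pullback.fst U.ι qA
  let p := pullback.snd U.ι qA
  haveI : (FEt.restrict qA).IsEquivalence := Groth.Agent.S0239.result A _
  obtain ⟨hfull, hfaith⟩ := Groth.Agent.S1135.result A t ht h1 h2
  haveI : (FEt.restrict a).Full := hfull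
  haveI : (FEt.restrict a).Faithful := hfaith
  have hcl : qA (IsLocalRing.closedPoint (A ⧸ Ideal.span {t})) = IsLocalRing.closedPoint A := by
    refine PrimeSpectrum.ext ?_
    exact IsLocalRing.eq_maximalIdeal (Ideal.comap_isMaximal_of_surjective
      (K := IsLocalRing.maximalIdeal (A ⧸ Ideal.span {t}))
      (Ideal.Quotient.mk (Ideal.span {t})) Ideal.Quotient.mk_surjective)
  have hr : Set.range p = Set.range U'.ι := by
    rw [Scheme.Pullback.range_snd, Scheme.Opens.range_ι, Scheme.Opens.range_ι]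
    ext q
    show ¬ qA q = IsLocalRing.closedPoint A ↔ ¬ q = IsLocalRing.closedPoint _
    refine not_congr ⟨fun h1 => ?_, fun h1 => h1 ▸ hcl⟩
    exact PrimeSpectrum.comap_injective_of_surjective _ Ideal.Quotient.mk_surjective (h1.trans hcl.symm)
  let ψ : pullback U.ι qA ≅ (U' : Scheme.{u}) := IsOpenImmersion.isoOfRangeEq p U'.ι hr
  haveI : (FEt.restrict p).IsEquivalence :=
    isEquivalence_restrict_of_iso_comp (k := U'.ι) ψ.hom (𝟙 _)
      (by rw [Category.comp_id]; exact (IsOpenImmersion.isoOfRangeEq_hom_fac _ _ _).symm)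
  haveI : (FEt.restrict U.ι ⋙ FEt.restrict a).IsEquivalence :=
    Functor.isEquivalence_of_iso (restrictSquare qA p U.ι a pullback.condition)
  haveI : (FEt.restrict a).EssSurj := ⟨fun Y =>
    ⟨_, ⟨(FEt.restrict U.ι ⋙ FEt.restrict a).objObjPreimageIso Y⟩⟩⟩
  haveI : (FEt.restrict a).IsEquivalence := {}
  exact Functor.isEquivalence_of_comp_right (FEt.restrict U.ι) (FEt.restrict a)

end Groth.Agent.PureLift25
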